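import Mathlib
import Groth.Agent.DetDegLib.Wedge
import Groth.Agent.DetDegLib.Frame
import Groth.Agent.CycC1Lib.Sec
import Groth.Agent.AmpleLib.Gen

/-!
# Determinant families: alternating maps on stalks, compatible with specialisation
-/

set_option autoImplicit false
set_option linter.style.haveILetI false
set_option linter.unusedSectionVars false

universe u

open AlgebraicGeometry CategoryTheory TopologicalSpace Opposite

noncomputable section

namespace DetRootLib

variable {X : Scheme.{u}} {M N P : X.Modules}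

/-- The map induced on stalks. -/
def sf (f : M ⟶ N) (y : X) : M.presheaf.stalk y →ₗ[X.presheaf.stalk y] N.presheaf.stalk y :=
  ((DerSch.stalkFunctor X y).map f).hom

theorem sf_germ (f : M ⟶ N) {U : X.Opens} {y : X} (hy : y ∈ U) (m : Γ(M, U)) :
    sf f y (M.presheaf.germ U y hy m) = N.presheaf.germ U y hy (f.app U m) :=
  TopCat.Presheaf.stalkFunctor_map_germ_apply U y hy f.mapPresheaf m

theorem sf_id (y : X) (a : M.presheaf.stalk y) : sf (𝟙 M) y a = a :=
  congrArg (fun φ : (DerSch.stalkFunctor X y).obj M ⟶ (DerSch.stalkFunctor X y).obj M => φ.hom a)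
    ((DerSch.stalkFunctor X y).map_id M)

theorem sf_comp (f : M ⟶ N) (g : N ⟶ P) (y : X) (a : M.presheaf.stalk y) :
    sf (f ≫ g) y a = sf g y (sf f y a) :=
  congrArg (fun φ : (DerSch.stalkFunctor X y).obj M ⟶ (DerSch.stalkFunctor X y).obj P => φ.hom a)
    ((DerSch.stalkFunctor X y).map_comp f g)

theorem sf_sp (f : M ⟶ N) {y' y : X} (h : y' ⤳ y) (a : M.presheaf.stalk y) :
    sf f y' (M.presheaf.stalkSpecializes h a) = N.presheaf.stalkSpecializes h (sf f y a) := by
  obtain ⟨U, hy, m, rfl⟩ := TopCat.Presheaf.exists_germ_eq M.presheaf (x := y) a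
  rw [TopCat.Presheaf.germ_stalkSpecializes_apply, sf_germ, sf_germ, TopCat.Presheaf.germ_stalkSpecializes_apply]

theorem sp_sum_smul {n : ℕ} (M : X.Modules) {y' y : X} (h : y' ⤳ y) (c : Fin n → X.presheaf.stalk y)
    (v : Fin n → M.presheaf.stalk y) :
    M.presheaf.stalkSpecializes h (∑ i, c i • v i) =
      ∑ i, X.presheaf.stalkSpecializes h (c i) • M.presheaf.stalkSpecializes h (v i) :=
  (map_sum (M.presheaf.stalkSpecializes h).hom _ _).trans
    (Finset.sum_congr rfl fun i _ => CycC1Lib.stalkSpecializes_smul M h (c i) (v i))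

variable {n : ℕ}

/-- A basis of a stalk given by the germs of a frame. -/
def frameBasis {U : X.Opens} {e : Fin n → Γ(M, U)} {y : X} {hy : y ∈ U} (h : DetDegLib.FrameAt M e hy) :
    Module.Basis (Fin n) (X.presheaf.stalk y) (M.presheaf.stalk y) :=
  Module.Basis.ofEquivFun (LinearEquiv.ofBijective
    (Fintype.linearCombination (X.presheaf.stalk y) (fun i => M.presheaf.germ U y hy (e i))) h).symm

theorem frameBasis_apply {U : X.Opens} {e : Fin n → Γ(M, U)} {y : X} {hy : y ∈ U}
    (h : DetDegLib.FrameAt M e hy) (i : Fin n) : frameBasis h i = M.presheaf.germ U y hy (e i) := by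
  simp [frameBasis]

theorem det_of_comb {R V : Type*} [CommRing R] [AddCommGroup V] [Module R V] (B : Module.Basis (Fin n) R V)
    {G : Matrix (Fin n) (Fin n) R} {v : Fin n → V} (h : ∀ b, v b = ∑ a, G a b • B a) : B.det v = G.det := by
  rw [B.det_apply]
  congr 1
  ext i j
  rw [Module.Basis.toMatrix_apply, h j]
  simp [Finsupp.single_apply]

/-- An alternating family on the stalks of `F`, generating `N`, compatible with specialisation. -/
def IsDetFam (n : ℕ) (F N : X.Modules) : Prop :=
  ∃ D : ∀ y : X, AlternatingMap (X.presheaf.stalk y) (F.presheaf.stalk y) (N.presheaf.stalk y) (Fin n),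
    (∀ y, ∃ B : Module.Basis (Fin n) (X.presheaf.stalk y) (F.presheaf.stalk y),
      Submodule.span (X.presheaf.stalk y) {D y B} = ⊤) ∧
    ∀ (y' y : X) (h : y' ⤳ y) (v : Fin n → F.presheaf.stalk y),
      D y' (fun j => F.presheaf.stalkSpecializes h (v j)) = N.presheaf.stalkSpecializes h (D y v)

/-- A determinant family from compatible charts. -/
theorem isDetFam_of_charts {F : X.Modules} {ι : Type*} (U : ι → X.Opens) (e : ∀ i, Fin n → Γ(F, U i))
    (w : ∀ i, Γ(N, U i)) (hcov : ∀ y : X, ∃ i, y ∈ U i)
    (hfr : ∀ (i : ι) (y : X) (hy : y ∈ U i), DetDegLib.FrameAt F (e i) hy)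
    (hgen : ∀ (i : ι) (y : X) (hy : y ∈ U i), AmpleLib.GenAt N (w i) hy)
    (hcomp : ∀ (i j : ι) (y : X) (hi : y ∈ U i) (hj : y ∈ U j) (G : Matrix (Fin n) (Fin n) (X.presheaf.stalk y)),
      (∀ b, F.presheaf.germ (U j) y hj (e j b) = ∑ a, G a b • F.presheaf.germ (U i) y hi (e i a)) →
        N.presheaf.germ (U j) y hj (w j) = G.det • N.presheaf.germ (U i) y hi (w i)) :
    IsDetFam n F N := by
  classical
  choose ch hch using hcov
  let B := fun y : X => frameBasis (hfr (ch y) y (hch y))
  let T := fun y : X => N.presheaf.germ (U (ch y)) y (hch y) (w (ch y))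
  let D : ∀ y : X, AlternatingMap (X.presheaf.stalk y) (F.presheaf.stalk y) (N.presheaf.stalk y) (Fin n) :=
    fun y => (LinearMap.toSpanSingleton (X.presheaf.stalk y) _ (T y)).compAlternatingMap (B y).det
  have key : ∀ (y : X) (i : ι) (hi : y ∈ U i) (v : Fin n → F.presheaf.stalk y)
      (G : Matrix (Fin n) (Fin n) (X.presheaf.stalk y)),
      (∀ b, v b = ∑ a, G a b • F.presheaf.germ (U i) y hi (e i a)) →
        D y v = G.det • N.presheaf.germ (U i) y hi (w i) := by
    intro y i hi v G hv
    let H := (B y).toMatrix fun a => F.presheaf.germ (U i) y hi (e i a)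
    have hH : ∀ a, F.presheaf.germ (U i) y hi (e i a) = ∑ c, H c a • B y c := fun a =>
      ((B y).sum_toMatrix_smul_self (fun a => F.presheaf.germ (U i) y hi (e i a)) a).symm
    have hw : N.presheaf.germ (U i) y hi (w i) = H.det • T y :=
      hcomp (ch y) i y (hch y) hi H fun a => (hH a).trans
        (Finset.sum_congr rfl fun c _ => congrArg (H c a • ·) (frameBasis_apply _ c))
    have hG : ∀ b, v b = ∑ c, (H * G) c b • B y c := fun b => by
      rw [hv b]
      simp only [hH, Finset.smul_sum, smul_smul, Matrix.mul_apply, Finset.sum_smul]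
      rw [Finset.sum_comm]
      exact Finset.sum_congr rfl fun c _ => Finset.sum_congr rfl fun a _ => by rw [mul_comm]
    show (B y).det v • T y = _
    rw [det_of_comb (B y) hG, hw, smul_smul, Matrix.det_mul, mul_comm]
  refine ⟨D, fun y => ⟨B y, ?_⟩, fun y' y h v => ?_⟩
  · have hD : D y (B y) = T y := by
      show (B y).det (B y) • T y = _
      rw [(B y).det_self, one_smul]
    rw [hD, eq_top_iff]
    intro x _
    obtain ⟨c, rfl⟩ := (hgen (ch y) y (hch y)).2 x
    exact Submodule.smul_mem _ c (Submodule.mem_span_singleton_self _)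
  · have hy' : y' ∈ U (ch y) := h.mem_open (U (ch y)).isOpen (hch y)
    let G := (B y).toMatrix v
    have hv : ∀ b, v b = ∑ a, G a b • B y a := fun b => ((B y).sum_toMatrix_smul_self v b).symm
    have hv' : ∀ b, F.presheaf.stalkSpecializes h (v b) =
        ∑ a, G.map (X.presheaf.stalkSpecializes h).hom a b • F.presheaf.germ (U (ch y)) y' hy' (e (ch y) a) := by
      intro b
      rw [hv b, sp_sum_smul]
      refine Finset.sum_congr rfl fun a _ => congrArg (X.presheaf.stalkSpecializes h (G a b) • ·) ?_
      show F.presheaf.stalkSpecializes h (frameBasis _ a) = _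
      rw [frameBasis_apply, TopCat.Presheaf.germ_stalkSpecializes_apply]
    rw [key y' (ch y) hy' _ _ hv']
    show _ = N.presheaf.stalkSpecializes h ((B y).det v • T y)
    rw [CycC1Lib.stalkSpecializes_smul, TopCat.Presheaf.germ_stalkSpecializes_apply, (B y).det_apply]
    congr 1
    exact ((X.presheaf.stalkSpecializes h).hom.map_det G).symm

/-- Transport along an isomorphism. -/
theorem IsDetFam.of_iso {F F' : X.Modules} (h : IsDetFam n F N) (e : F ≅ F') : IsDetFam n F' N := by
  obtain ⟨D, hgen, hsp⟩ := h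
  refine ⟨fun y => (D y).compLinearMap (sf e.inv y), fun y => ?_, fun y' y h v => ?_⟩
  · obtain ⟨B, hB⟩ := hgen y
    have h1 : ∀ a : F.presheaf.stalk y, sf e.inv y (sf e.hom y a) = a := fun a => by
      rw [← sf_comp, e.hom_inv_id, sf_id]
    have h2 : ∀ a : F'.presheaf.stalk y, sf e.hom y (sf e.inv y a) = a := fun a => by
      rw [← sf_comp, e.inv_hom_id, sf_id]
    refine ⟨B.map (LinearEquiv.ofLinear (sf e.hom y) (sf e.inv y) (LinearMap.ext h2) (LinearMap.ext h1)), ?_⟩
    rw [← hB]
    congr 2
    show D y _ = D y B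
    congr 1
    funext j
    exact h1 (B j)
  · show D y' _ = N.presheaf.stalkSpecializes h (D y _)
    rw [← hsp]
    congr 1
    funext j
    exact sf_sp e.inv h (v j)

end DetRootLib

end
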