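import Mathlib
import Groth.Agent.DetRootLib.Fam
import Groth.Agent.CycC1Lib.Cap
import Groth.Agent.ChernOpLib.Splitting

/-!
# The first Chern class of the determinant of a filtered module
-/

set_option autoImplicit false
set_option linter.style.haveILetI false
set_option linter.unusedSectionVars false

universe u

open AlgebraicGeometry CategoryTheory CategoryTheory.Limits

noncomputable section

namespace DetRootLib

variable {X : Scheme.{u}}

theorem stalk_surjective {S : ShortComplex X.Modules} (hS : S.ShortExact) (y : X) :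
    Function.Surjective (sf S.g y) := by
  haveI := (hS.map_of_exact (DerSch.stalkFunctor X y)).epi_g
  exact (ModuleCat.epi_iff_surjective _).1 this

theorem stalk_exact {S : ShortComplex X.Modules} (hS : S.ShortExact) (y : X) (a : S.X₂.presheaf.stalk y)
    (ha : sf S.g y a = 0) : ∃ d, sf S.f y d = a :=
  (ShortComplex.ShortExact.moduleCat_exact_iff_function_exact _).1
    (hS.map_of_exact (DerSch.stalkFunctor X y)).exact a |>.1 ha

theorem span_gen {M : X.Modules} {U : X.Opens} {e : Γ(M, U)} {y : X} {hy : y ∈ U} (h : AmpleLib.GenAt M e hy) :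
    Submodule.span (X.presheaf.stalk y) {M.presheaf.germ U y hy e} = ⊤ := by
  refine eq_top_iff.2 fun v _ => ?_
  obtain ⟨c, rfl⟩ := h.2 v
  exact Submodule.smul_mem _ c (Submodule.mem_span_singleton_self _)

theorem gen_coord {M : X.Modules} {U : X.Opens} {e : Γ(M, U)} {y : X} {hy : y ∈ U} (h : AmpleLib.GenAt M e hy)
    {t : M.presheaf.stalk y} (ht : Submodule.span (X.presheaf.stalk y) {t} = ⊤) :
    ∃ u : X.presheaf.stalk y, IsUnit u ∧ t = u • M.presheaf.germ U y hy e := by
  obtain ⟨u, hu⟩ := h.2 t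
  obtain ⟨a, ha⟩ := Submodule.mem_span_singleton.1 (ht.ge (Submodule.mem_top (x := M.presheaf.germ U y hy e)))
  refine ⟨u, IsUnit.of_mul_eq_one a (h.1 ?_), hu.symm⟩
  show (u * a) • M.presheaf.germ U y hy e = (1 : X.presheaf.stalk y) • M.presheaf.germ U y hy e
  rw [mul_comm u a, mul_smul, one_smul]
  exact (congrArg (a • ·) hu).trans ha

theorem span_sp {M : X.Modules} (hM : PicF.IsInvertible M) {y' y : X} (h : y' ⤳ y) {t : M.presheaf.stalk y}
    (ht : Submodule.span (X.presheaf.stalk y) {t} = ⊤) :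
    Submodule.span (X.presheaf.stalk y') {M.presheaf.stalkSpecializes h t} = ⊤ := by
  obtain ⟨U, e, hy, he⟩ := TwistLib.exists_genOn hM y
  obtain ⟨u, hu, rfl⟩ := gen_coord (he.genAt hy) ht
  rw [CycC1Lib.stalkSpecializes_smul, TopCat.Presheaf.germ_stalkSpecializes_apply,
    Submodule.span_singleton_smul_eq (hu.map (X.presheaf.stalkSpecializes h).hom)]
  exact span_gen (he.genAt _)

theorem fib_ne_zero {M : X.Modules} (hM : PicF.IsInvertible M) {y : X} {t : M.presheaf.stalk y}
    (ht : Submodule.span (X.presheaf.stalk y) {t} = ⊤) : CycC1Lib.fib M t ≠ 0 := by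
  obtain ⟨U, e, hy, he⟩ := TwistLib.exists_genOn hM y
  obtain ⟨u, hu, rfl⟩ := gen_coord (he.genAt hy) ht
  intro h
  exact (hu.map (X.residue y).hom).ne_zero ((CycC1Lib.fib_smul_eq_zero_iff (he.genAt hy) u).1
    ((Submodule.Quotient.mk_smul _ u _).symm.trans h))

/-- The divisor of a rational section, in terms of its coordinate on a generator of the stalk at `x`. -/
theorem secDiv_eq {δ : X → ℤ} (hX : Cyc.IsSetup X δ) {M : X.Modules} (hM : PicF.IsInvertible M) {ξ x : X}
    (h : ξ ⤳ x) (hd : δ x + 1 = δ ξ) {t : M.presheaf.stalk x}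
    (ht : Submodule.span (X.presheaf.stalk x) {t} = ⊤) (φ : X.presheaf.stalk ξ) :
    Cyc.secDivFun δ M ξ (CycC1Lib.fib M (φ • M.presheaf.stalkSpecializes h t)) x =
      Cyc.ordAt x ξ h (X.residue ξ φ) := by
  obtain ⟨U, e, hx, he⟩ := TwistLib.exists_genOn hM x
  obtain ⟨u, hu, rfl⟩ := gen_coord (he.genAt hx) ht
  rw [CycC1Lib.secDivFun_eq_divFun hX he hx (h.mem_open U.isOpen hx) (φ := φ * X.presheaf.stalkSpecializes h u)
    (by rw [CycC1Lib.stalkSpecializes_smul, TopCat.Presheaf.germ_stalkSpecializes_apply, smul_smul]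
        exact Submodule.Quotient.mk_smul _ _ _)]
  rw [Cyc.divFun, dif_pos ⟨h, hd⟩, map_mul,
    show X.residue ξ (X.presheaf.stalkSpecializes h u) = Cyc.specMap x ξ h u from rfl]
  exact CycC1Lib.ordAt_unit_mul hX h hd hu _

theorem ordAt_prod {δ : X → ℤ} (hX : Cyc.IsSetup X δ) {ξ x : X} (h : ξ ⤳ x) (hd : δ x + 1 = δ ξ) {κ : Type*}
    (s : Finset κ) (z : κ → X.residueField ξ) (hz : ∀ j ∈ s, z j ≠ 0) :
    Cyc.ordAt x ξ h (∏ j ∈ s, z j) = ∑ j ∈ s, Cyc.ordAt x ξ h (z j) := by
  classical
  haveI := hX.1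
  have hd' := CycPushLib.dimBetween_le_one_of_drop hX h hd
  induction s using Finset.induction with
  | empty =>
    simp only [Finset.prod_empty, Finset.sum_empty]
    have := CycDivLib.ordAt_mul h hd' (one_ne_zero (α := X.residueField ξ)) one_ne_zero
    rw [one_mul] at this
    omega
  | insert a s ha ih =>
    rw [Finset.prod_insert ha, Finset.sum_insert ha, CycDivLib.ordAt_mul h hd' (hz a (Finset.mem_insert_self a s))
      (Finset.prod_ne_zero_iff.2 fun j hj => hz j (Finset.mem_insert_of_mem hj)),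
      ih fun j hj => hz j (Finset.mem_insert_of_mem hj)]

variable {r : ℕ} {M : Fin (r + 1) → X.Modules} {L : Fin r → X.Modules}
  (a : ∀ j : Fin r, M (Fin.castSucc j) ⟶ M (Fin.succ j)) (b : ∀ j : Fin r, M (Fin.succ j) ⟶ L j)

/-- The map of a step of the filtration to the top. -/
def top : ∀ j : Fin (r + 1), M j ⟶ M (Fin.last r) :=
  fun j => Fin.reverseInduction (motive := fun j => M j ⟶ M (Fin.last r)) (𝟙 _) (fun j g => a j ≫ g) j

theorem top_castSucc (j : Fin r) : top a (Fin.castSucc j) = a j ≫ top a (Fin.succ j) :=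
  Fin.reverseInduction_castSucc (motive := fun j => M j ⟶ M (Fin.last r)) j

theorem top_last : top a (Fin.last r) = 𝟙 _ :=
  Fin.reverseInduction_last (motive := fun j => M j ⟶ M (Fin.last r))

/-- A tuple lifting generators of the quotients. -/
def IsLift (y : X) (v : Fin r → (M (Fin.last r)).presheaf.stalk y) : Prop :=
  ∀ j, ∃ c, sf (top a (Fin.succ j)) y c = v j ∧
    Submodule.span (X.presheaf.stalk y) {sf (b j) y c} = ⊤

variable {a b} (hex : ∀ j : Fin r, ∃ h : a j ≫ b j = 0, (ShortComplex.mk (a j) (b j) h).ShortExact)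
  (hL : ∀ j, PicF.IsInvertible (L j))

include hex hL in
theorem exists_lift (y : X) : ∃ v, IsLift a b y v := by
  have : ∀ j : Fin r, ∃ c, Submodule.span (X.presheaf.stalk y) {sf (b j) y c} = ⊤ := by
    intro j
    obtain ⟨U, e, hy, he⟩ := TwistLib.exists_genOn (hL j) y
    obtain ⟨w, hS⟩ := hex j
    obtain ⟨c, hc⟩ := stalk_surjective hS y ((L j).presheaf.germ U y hy e)
    exact ⟨c, hc ▸ span_gen (he.genAt hy)⟩
  choose c hc using this
  exact ⟨fun j => sf (top a (Fin.succ j)) y (c j), fun j => ⟨c j, rfl, hc j⟩⟩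

include hL in
theorem IsLift.sp {y' y : X} (h : y' ⤳ y) {v : Fin r → (M (Fin.last r)).presheaf.stalk y} (hv : IsLift a b y v) :
    IsLift a b y' fun j => (M (Fin.last r)).presheaf.stalkSpecializes h (v j) := by
  intro j
  obtain ⟨c, hc, hg⟩ := hv j
  refine ⟨(M (Fin.succ j)).presheaf.stalkSpecializes h c, (sf_sp _ h c).trans (congrArg _ hc), ?_⟩
  rw [sf_sp]
  exact span_sp (hL j) h hg

variable (h0 : IsZero (M 0))

include hex h0 in
theorem lift_span {y : X} {v : Fin r → (M (Fin.last r)).presheaf.stalk y} (hv : IsLift a b y v)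
    (j : Fin (r + 1)) (d : (M j).presheaf.stalk y) :
    sf (top a j) y d ∈ Submodule.span (X.presheaf.stalk y) (v '' {i : Fin r | (i : ℕ) < j}) := by
  induction j using Fin.induction with
  | zero =>
    have hd : sf (𝟙 (M 0)) y d = sf (0 : M 0 ⟶ M 0) y d := by rw [h0.eq_of_src (𝟙 (M 0)) 0]
    rw [sf_id] at hd
    have h00 : sf (0 : M 0 ⟶ M 0) y d = 0 :=
      congrArg (fun φ : (DerSch.stalkFunctor X y).obj (M 0) ⟶ (DerSch.stalkFunctor X y).obj (M 0) => φ.hom d)
        ((DerSch.stalkFunctor X y).map_zero (M 0) (M 0))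
    rw [hd, h00, map_zero]
    exact Submodule.zero_mem _
  | succ j ih =>
    obtain ⟨c, hc, hg⟩ := hv j
    obtain ⟨μ, hμ⟩ := Submodule.mem_span_singleton.1 (hg.ge (Submodule.mem_top (x := sf (b j) y d)))
    obtain ⟨w, hS⟩ := hex j
    obtain ⟨d', hd'⟩ := stalk_exact hS y (d - μ • c) (by
      show sf (b j) y (d - μ • c) = 0
      rw [map_sub, map_smul, hμ, sub_self])
    have e : d = μ • c + sf (a j) y d' := by
      rw [show sf (a j) y d' = d - μ • c from hd', add_sub_cancel]
    rw [e, map_add, map_smul, hc]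
    refine Submodule.add_mem _ (Submodule.smul_mem _ μ (Submodule.subset_span ⟨j, by simp, rfl⟩)) ?_
    rw [← sf_comp, ← top_castSucc]
    refine Submodule.span_mono (Set.image_mono fun i hi => ?_) (ih d')
    simp only [Set.mem_setOf_eq, Fin.val_castSucc, Fin.val_succ] at hi ⊢
    omega

include hex h0 in
theorem span_lift {y : X} {v : Fin r → (M (Fin.last r)).presheaf.stalk y} (hv : IsLift a b y v) :
    Submodule.span (X.presheaf.stalk y) (Set.range v) = ⊤ := by
  refine eq_top_iff.2 fun d _ => ?_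
  have := lift_span hex h0 hv (Fin.last r) d
  rw [top_last, sf_id] at this
  exact Submodule.span_mono (Set.image_subset_range _ _) this

section Eval

variable {N : X.Modules} {y : X}
  (D : AlternatingMap (X.presheaf.stalk y) ((M (Fin.last r)).presheaf.stalk y) (N.presheaf.stalk y) (Fin r))
  (hD : ∃ B : Module.Basis (Fin r) (X.presheaf.stalk y) ((M (Fin.last r)).presheaf.stalk y),
    Submodule.span (X.presheaf.stalk y) {D B} = ⊤)

include hex h0 hD in
theorem span_eval {v : Fin r → (M (Fin.last r)).presheaf.stalk y} (hv : IsLift a b y v) :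
    Submodule.span (X.presheaf.stalk y) {D v} = ⊤ := by
  classical
  obtain ⟨B, hB⟩ := hD
  have hmem : ∀ j, B j ∈ Submodule.span (X.presheaf.stalk y) (Set.range v) := fun j => by
    rw [span_lift hex h0 hv]; trivial
  choose H hH using fun j => (Submodule.mem_span_range_iff_exists_fun _).1 (hmem j)
  let H' : Matrix (Fin r) (Fin r) (X.presheaf.stalk y) := Matrix.of fun i j => H j i
  have hu : IsUnit (B.det v) := by
    rw [B.det_apply]
    refine Matrix.isUnit_det_of_right_inverse (B := H') (Matrix.ext fun i j => ?_)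
    rw [Matrix.mul_apply]
    have := congrArg (fun z => B.repr z i) (hH j)
    simp only [map_sum, Finsupp.coe_finsetSum, Finset.sum_apply, map_smul, Finsupp.smul_apply, smul_eq_mul] at this
    rw [B.repr_self, Finsupp.single_apply] at this
    simp only [Module.Basis.toMatrix_apply, H', Matrix.of_apply, Matrix.one_apply]
    rw [show (if i = j then (1 : X.presheaf.stalk y) else 0) = if j = i then 1 else 0 by
      simp only [eq_comm], ← this]
    exact Finset.sum_congr rfl fun k _ => mul_comm _ _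
  rw [DetDegLib.alt_eq B D v, Submodule.span_singleton_smul_eq hu, hB]

include hex h0 in
/-- Comparing two lifts is triangular. -/
theorem eval_triangular {v w : Fin r → (M (Fin.last r)).presheaf.stalk y} {c c' : ∀ j, (M (Fin.succ j)).presheaf.stalk y}
    (hv : ∀ j, sf (top a (Fin.succ j)) y (c j) = v j) (hw : ∀ j, sf (top a (Fin.succ j)) y (c' j) = w j)
    (hwl : IsLift a b y w)
    {φ : Fin r → X.presheaf.stalk y} (hφ : ∀ j, sf (b j) y (c j) = φ j • sf (b j) y (c' j))
    (hB : ∃ B : Module.Basis (Fin r) (X.presheaf.stalk y) ((M (Fin.last r)).presheaf.stalk y), True) :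
    D v = (∏ j, φ j) • D w := by
  classical
  obtain ⟨B₀, -⟩ := hB
  have hmem : ∀ j : Fin r, v j - φ j • w j ∈ Submodule.span (X.presheaf.stalk y) (w '' {i : Fin r | (i : ℕ) < j}) := by
    intro j
    obtain ⟨h', hS⟩ := hex j
    obtain ⟨d, hd⟩ := stalk_exact hS y (c j - φ j • c' j) (by
      show sf (b j) y (c j - φ j • c' j) = 0
      rw [map_sub, map_smul, hφ, sub_self])
    rw [← hv, ← hw, ← map_smul, ← map_sub, ← show sf (a j) y d = c j - φ j • c' j from hd, ← sf_comp, ← top_castSucc]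
    exact lift_span hex h0 hwl (Fin.castSucc j) d
  have hsp := span_lift hex h0 hwl
  haveI : Module.Finite (X.presheaf.stalk y) ((M (Fin.last r)).presheaf.stalk y) := Module.Finite.of_basis B₀
  have hli : Function.Bijective (Fintype.linearCombination (X.presheaf.stalk y) w ∘ₗ B₀.equivFun.toLinearMap) := by
    refine OrzechProperty.bijective_of_surjective_endomorphism _ ?_
    intro z
    obtain ⟨g, hg⟩ := (Submodule.mem_span_range_iff_exists_fun _).1 (hsp ▸ Submodule.mem_top (x := z))
    refine ⟨B₀.equivFun.symm g, ?_⟩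
    show Fintype.linearCombination (X.presheaf.stalk y) w (B₀.equivFun (B₀.equivFun.symm g)) = z
    rw [LinearEquiv.apply_symm_apply, Fintype.linearCombination_apply]
    exact hg
  let B : Module.Basis (Fin r) (X.presheaf.stalk y) ((M (Fin.last r)).presheaf.stalk y) :=
    Module.Basis.ofEquivFun (LinearEquiv.ofBijective (Fintype.linearCombination (X.presheaf.stalk y) w)
      ((Function.Bijective.of_comp_iff _ B₀.equivFun.bijective).1 hli)).symm
  have hBw : ⇑B = w := funext fun i => by simp [B]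
  have hG : ∀ i j, j < i → B.repr (v j) i = 0 := by
    intro i j hij
    have hm : v j ∈ Submodule.span (X.presheaf.stalk y) (B '' {i : Fin r | (i : ℕ) ≤ j}) := by
      rw [hBw]
      have := Submodule.add_mem _ (Submodule.span_mono (Set.image_mono fun (i : Fin r) (hi : (i : ℕ) < j) => hi.le) (hmem j))
        (Submodule.smul_mem _ (φ j) (Submodule.subset_span (s := w '' {i : Fin r | (i : ℕ) ≤ j}) ⟨j, le_refl (j : ℕ), rfl⟩))
      rwa [sub_add_cancel] at this
    by_contra hne
    have := (B.mem_span_image.1 hm) (Finsupp.mem_support_iff.2 hne)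
    simp only [Set.mem_setOf_eq] at this
    exact absurd (Fin.lt_def.1 hij) (not_lt.2 this)
  have hdiag : ∀ j, B.repr (v j) j = φ j := by
    intro j
    have hm := hmem j
    rw [← hBw] at hm
    by_contra hne
    have h1 : B.repr (v j - φ j • B j) j ≠ 0 := by
      simpa [sub_eq_zero] using hne
    have := (B.mem_span_image.1 hm) (Finsupp.mem_support_iff.2 h1)
    simp at this
  rw [DetDegLib.alt_eq B D v, hBw, B.det_apply, Matrix.det_of_upperTriangular]
  · congr 1
    exact Finset.prod_congr rfl fun j _ => by rw [Module.Basis.toMatrix_apply, hdiag]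
  · exact fun i j hij => hG i j hij

end Eval

include hex h0 in
/-- The first Chern class of the determinant is the sum of the roots. -/
theorem op_eq_sum {δ : X → ℤ} (hX : Cyc.IsSetup X δ) {F N : X.Modules} (e : M (Fin.last r) ≅ F)
    (hN : PicF.IsInvertible N) (hfam : IsDetFam r F N) :
    ChernOpLib.op hX hN = ∑ j, ChernOpLib.op hX (hL j) := by
  classical
  obtain ⟨D, hgen, hnat⟩ := hfam.of_iso e.symm
  choose v hv using exists_lift hex hL
  choose c hcv hc using hv
  have hlift : ∀ y, IsLift a b y (v y) := fun y j => ⟨c y j, hcv y j, hc y j⟩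
  let sN : (ξ : X) → Cyc.secFibre N ξ := fun ξ => CycC1Lib.fib N (D ξ (v ξ))
  let sL : ∀ j, (ξ : X) → Cyc.secFibre (L j) ξ := fun j ξ => CycC1Lib.fib (L j) (sf (b j) ξ (c ξ j))
  have hsN : ∀ ξ, sN ξ ≠ 0 := fun ξ => fib_ne_zero hN (span_eval hex h0 (D ξ) (hgen ξ) (hlift ξ))
  have hsL : ∀ j ξ, sL j ξ ≠ 0 := fun j ξ => fib_ne_zero (hL j) (hc ξ j)
  have hpt : ∀ ξ x, Cyc.secDivFun δ N ξ (sN ξ) x = ∑ j, Cyc.secDivFun δ (L j) ξ (sL j ξ) x := by
    intro ξ x
    by_cases h : ξ ⤳ x ∧ δ x + 1 = δ ξ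
    swap
    · rw [CycC1Lib.secDivFun_eq_zero_of_not h, Finset.sum_eq_zero fun j _ => CycC1Lib.secDivFun_eq_zero_of_not h _]
    obtain ⟨h, hd⟩ := h
    have hw := (hlift x).sp hL h
    have hex' : ∀ j, ∃ φ : X.presheaf.stalk ξ, sf (b j) ξ (c ξ j) =
        φ • sf (b j) ξ ((M (Fin.succ j)).presheaf.stalkSpecializes h (c x j)) := by
      intro j
      have ht : Submodule.span (X.presheaf.stalk ξ) {sf (b j) ξ ((M (Fin.succ j)).presheaf.stalkSpecializes h (c x j))} = ⊤ := by
        rw [sf_sp]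
        exact span_sp (hL j) h (hc x j)
      obtain ⟨φ, hφ⟩ := Submodule.mem_span_singleton.1 (ht.ge (Submodule.mem_top (x := sf (b j) ξ (c ξ j))))
      exact ⟨φ, hφ.symm⟩
    choose φ hφ using hex'
    have hne : ∀ j, X.residue ξ (φ j) ≠ 0 := by
      intro j h0'
      refine hsL j ξ ?_
      show CycC1Lib.fib (L j) _ = 0
      rw [hφ j, CycC1Lib.fib, Submodule.Quotient.mk_smul]
      obtain ⟨μ, hμ⟩ := Submodule.mem_span_singleton.1
        ((hc ξ j).ge (Submodule.mem_top (x := sf (b j) ξ ((M (Fin.succ j)).presheaf.stalkSpecializes h (c x j)))))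
      rw [← Submodule.Quotient.mk_smul, Submodule.Quotient.mk_eq_zero]
      exact Submodule.smul_mem_smul ((IsLocalRing.residue_eq_zero_iff _).1 h0') Submodule.mem_top
    have hD : D ξ (v ξ) = (∏ j, φ j) • N.presheaf.stalkSpecializes h (D x (v x)) := by
      rw [← hnat]
      exact eval_triangular hex h0 (D ξ) (hcv ξ)
        (fun j => (sf_sp _ h (c x j)).trans (congrArg _ (hcv x j))) hw hφ ⟨(hgen ξ).choose, trivial⟩
    show Cyc.secDivFun δ N ξ (CycC1Lib.fib N (D ξ (v ξ))) x = _
    rw [hD, secDiv_eq hX hN h hd (span_eval hex h0 (D x) (hgen x) (hlift x)), map_prod,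
      ordAt_prod hX h hd _ _ fun j _ => hne j]
    refine Finset.sum_congr rfl fun j _ => ?_
    show _ = Cyc.secDivFun δ (L j) ξ (CycC1Lib.fib (L j) (sf (b j) ξ (c ξ j))) x
    rw [hφ j, sf_sp, secDiv_eq hX (hL j) h hd (hc x j)]
  refine Subtype.ext ?_
  show ChernOpLib.c1T hX hN = (Subring.closure (ChernOpLib.c1Set hX)).subtype (∑ j, ChernOpLib.op hX (hL j))
  rw [map_sum]
  show ChernOpLib.c1T hX hN = ∑ j, ChernOpLib.c1T hX (hL j)
  refine AddMonoidHom.ext fun z => funext fun k => ?_
  obtain ⟨α, hα, hαe⟩ := ChernOpLib.exists_rep_tot z (k + 1)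
  have hcomp : ∀ {A : X.Modules} (hA : PicF.IsInvertible A),
      ChernOpLib.c1T hX hA z k = ChernOpLib.c1T hX hA (ChernOpLib.tcl α hα) k := by
    intro A hA
    show Bivar.chCast X δ _ (CycBivLib.capCH hX hA _ (k + 1) (z (k + 1))) =
      Bivar.chCast X δ _ (CycBivLib.capCH hX hA _ (k + 1) ((ChernOpLib.tcl α hα) (k + 1)))
    rw [ChernOpLib.tcl, Pi.single_eq_same, hαe]
  refine (hcomp hN).trans (Eq.trans ?_ (congrFun (AddMonoidHom.finsetSum_apply
    (fun j => (ChernOpLib.c1T hX (hL j) : ChernOpLib.Tot X δ →+ ChernOpLib.Tot X δ)) Finset.univ z) k).symm)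
  refine Eq.trans ?_ (Finset.sum_apply k Finset.univ _).symm
  refine Eq.trans ?_ (Finset.sum_congr rfl fun j _ => hcomp (hL j)).symm
  have hm : ∀ {A : X.Modules} (hA : PicF.IsInvertible A) {t : (ξ : X) → Cyc.secFibre A ξ} (ht : ∀ ξ, t ξ ≠ 0),
      CycC1Lib.capCyc hX hA α ht ∈ Cyc.Zk X δ (k + 1 - 1) := fun hA _ ht =>
    CycCommLib.capCyc_mem_Zk hX hA (by rw [sub_add_cancel]; exact hα) ht
  rw [ChernOpLib.c1T_tcl hX hN hα hsN (γ := CycC1Lib.capCyc hX hN α hsN) rfl (hm hN hsN),
    Finset.sum_congr rfl fun j _ => congrFun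
      (ChernOpLib.c1T_tcl hX (hL j) hα (hsL j) (γ := CycC1Lib.capCyc hX (hL j) α (hsL j)) rfl (hm (hL j) (hsL j))) k,
    ← Finset.sum_apply, ← ChernOpLib.tcl_sum Finset.univ _ fun j => hm (hL j) (hsL j)]
  congr 1
  refine Function.locallyFinsuppWithin.ext fun x => ?_
  obtain ⟨S, hS⟩ := CycC1Lib.exists_finset_generizations α x
  rw [Function.locallyFinsuppWithin.coe_sum, Finset.sum_apply]
  show Cyc.c1CapFun δ N ⇑α sN x = ∑ j, Cyc.c1CapFun δ (L j) ⇑α (sL j) x
  simp only [CycC1Lib.c1CapFun_eq_sum hS]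
  rw [Finset.sum_comm]
  exact Finset.sum_congr rfl fun ξ _ => by rw [hpt, Finset.mul_sum]

end DetRootLib

end
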